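import Groth.Prelude.Def_EtZar
import Groth.Prelude.Def_Coh
import Groth.Agent.EtCechLib.Cartan
import Groth.Agent.SiteCoh.Cohomology
import Mathlib.Algebra.Homology.DerivedCategory.Ext.ExactSequences
import Mathlib.Algebra.Category.Grp.Ulift

/-!
# Zariski cohomology does not depend on the universe of the values
-/

set_option autoImplicit false
set_option backward.isDefEq.respectTransparency false
set_option backward.isDefEq.respectTransparency.types false
set_option synthInstance.maxHeartbeats 400000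
set_option linter.style.haveILetI false
set_option linter.unusedSectionVars false

universe w v u

open CategoryTheory CategoryTheory.Limits CategoryTheory.Abelian AlgebraicGeometry Opposite TopologicalSpace
open Groth.Agent.SiteCoh

namespace Groth.Agent.Desc19b.EtQCoh

section Shift

variable {A : Type u} [Category.{v} A] [Abelian A] [HasExt.{w} A] (c : A) {S : ShortComplex A}
  (hS : S.ShortExact)

/-- The connecting map. -/
noncomputable abbrev connect (n : ℕ) : Ext c S.X₃ n →+ Ext c S.X₁ (n + 1) := hS.extClass.postcomp c rfl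

theorem connect_surjective (n : ℕ) (h : Subsingleton (Ext c S.X₂ (n + 1))) :
    Function.Surjective (connect c hS n) := fun y =>
  (ShortComplex.ab_exact_iff _).1 (Ext.covariant_sequence_exact₁' c hS n (n + 1) rfl) y
    (Subsingleton.elim (α := Ext c S.X₂ (n + 1)) _ _)

theorem connect_eq_zero_iff (n : ℕ) (x : Ext c S.X₃ n) :
    connect c hS n x = 0 ↔ ∃ y : Ext c S.X₂ n, y.comp (Ext.mk₀ S.g) (add_zero n) = x := by
  constructor
  · exact (ShortComplex.ab_exact_iff _).1 (Ext.covariant_sequence_exact₃' c hS n (n + 1) rfl) x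
  · rintro ⟨y, rfl⟩
    show (y.comp (Ext.mk₀ S.g) (add_zero n)).comp hS.extClass rfl = 0
    rw [Ext.comp_assoc_of_second_deg_zero, hS.comp_extClass, Ext.comp_zero]

theorem connect_bijective (n : ℕ) (h : Subsingleton (Ext c S.X₂ n))
    (h' : Subsingleton (Ext c S.X₂ (n + 1))) : Function.Bijective (connect c hS n) :=
  ⟨(injective_iff_map_eq_zero _).2 fun x hx => by
      obtain ⟨y, rfl⟩ := (connect_eq_zero_iff c hS n x).1 hx
      rw [Subsingleton.elim y 0, Ext.zero_comp],
    connect_surjective c hS n h'⟩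

end Shift

theorem nonempty_addEquiv_of_ker_eq {G A B : Type*} [AddCommGroup G] [AddCommGroup A] [AddCommGroup B]
    (f : G →+ A) (g : G →+ B) (hf : Function.Surjective f) (hg : Function.Surjective g)
    (h : ∀ x, f x = 0 ↔ g x = 0) : Nonempty (A ≃+ B) :=
  ⟨((QuotientAddGroup.quotientKerEquivOfSurjective f hf).symm.trans
    (QuotientAddGroup.quotientAddEquivOfEq (AddSubgroup.ext fun x =>
      AddMonoidHom.mem_ker.trans ((h x).trans AddMonoidHom.mem_ker.symm)))).trans
    (QuotientAddGroup.quotientKerEquivOfSurjective g hg)⟩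

section Cech

variable {E : Type u} [Category.{v} E] [HasFiniteProducts E] (P : Eᵒᵖ ⥤ AddCommGrpCat.{u})

theorem isZero_homology_ulift {ι : Type (u + 1)} {ι' : Type u} (e : ι' ≃ ι) (W : ι → E) (p : ℕ)
    (h : IsZero ((Cech.cx P (fun i => W (e i))).homology (p + 1))) :
    IsZero ((Cech.cx (P ⋙ AddCommGrpCat.uliftFunctor.{u + 1, u}) W).homology (p + 1)) := by
  rw [Cech.isZero_homology_succ_iff] at h ⊢
  let P' := P ⋙ AddCommGrpCat.uliftFunctor.{u + 1, u}
  intro x hx
  have hd : ∀ {q : ℕ} (z : (Cech.cx P' W).X q) (z' : (Cech.cx P (fun i => W (e i))).X q),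
      (∀ a, (Cech.ev P' W (fun k => e (a k)) z).down = Cech.ev P (fun i => W (e i)) a z') →
      ∀ a, (Cech.ev P' W (fun k => e (a k)) ((Cech.cx P' W).d q (q + 1) z)).down =
        Cech.ev P (fun i => W (e i)) a ((Cech.cx P (fun i => W (e i))).d q (q + 1) z') := by
    intro q z z' hz a
    rw [Cech.ev_d, Cech.ev_d]
    refine (map_sum (AddEquiv.ulift : ULift.{u + 1} (P.obj (op (Cech.inter W fun k => e (a k)))) ≃+ _) _ _).trans
      (Finset.sum_congr rfl fun j _ => ?_)
    refine (map_zsmul (AddEquiv.ulift : ULift.{u + 1} (P.obj (op (Cech.inter W fun k => e (a k)))) ≃+ _) _ _).trans ?_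
    exact congrArg (fun m => (-1 : ℤ) ^ (j : ℕ) • P.map (Cech.face (fun i => W (e i)) a j).op m)
      (hz (a ∘ j.succAbove))
  let x' : (Cech.cx P (fun i => W (e i))).X (p + 1) :=
    Cech.mk _ _ fun a => (Cech.ev P' W (fun k => e (a k)) x).down
  have hx' : ∀ a, (Cech.ev P' W (fun k => e (a k)) x).down = Cech.ev P (fun i => W (e i)) a x' :=
    fun a => (Cech.ev_mk P (fun i => W (e i))
      (fun a => (Cech.ev P' W (fun k => e (a k)) x).down) a).symm
  obtain ⟨y', hy'⟩ := h x' (Cech.ext _ _ fun a => by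
    rw [← hd x x' hx' a, hx, map_zero, map_zero]
    rfl)
  have hsurj : ∀ {q : ℕ} (a : Fin q → ι), ∃ a' : Fin q → ι', a = fun k => e (a' k) := fun a =>
    ⟨fun k => e.symm (a k), funext fun k => (e.apply_symm_apply _).symm⟩
  choose a' ha' using fun a : Fin (p + 1) → ι => hsurj a
  let y : (Cech.cx P' W).X p := Cech.mk _ _ fun a => ULift.up
    (P.map (eqToHom (congrArg (fun b => Cech.inter W b) (ha' a))).op
      (Cech.ev P (fun i => W (e i)) (a' a) y'))
  have hy : ∀ b, (Cech.ev P' W (fun k => e (b k)) y).down = Cech.ev P (fun i => W (e i)) b y' := fun b => by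
    rw [Cech.ev_mk]
    have key : ∀ (c : Fin (p + 1) → ι') (hc : (fun k => e (b k)) = fun k => e (c k)),
        P.map (eqToHom (congrArg (fun b => Cech.inter W b) hc)).op (Cech.ev P (fun i => W (e i)) c y') =
          Cech.ev P (fun i => W (e i)) b y' := by
      intro c hc
      obtain rfl : b = c := funext fun k => e.injective (congrFun hc k)
      rw [eqToHom_refl, op_id, P.map_id]
      rfl
    exact key _ (ha' _)
  refine ⟨y, Cech.ext _ _ fun b => ?_⟩
  obtain ⟨b', rfl⟩ := hsurj b
  refine ULift.ext _ _ ((hd y y' hy b').trans ?_)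
  rw [hy']
  exact (hx' b').symm

end Cech

variable (X : Scheme.{u})

instance : (Opens.grothendieckTopology X).WEqualsLocallyBijective AddCommGrpCat.{u + 1} :=
  GrothendieckTopology.WEqualsLocallyBijective.ofEssentiallySmall (Opens.grothendieckTopology X)

/-- Sheaves with values one universe up. -/
noncomputable abbrev lift : Sheaf (Opens.grothendieckTopology X) AddCommGrpCat.{u} ⥤ EtZar.Ab X :=
  sheafCompose (Opens.grothendieckTopology X) AddCommGrpCat.uliftFunctor.{u + 1, u}

instance additive_lift : (lift X).Additive where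

instance preservesFiniteLimits_lift : PreservesFiniteLimits (lift X) := ⟨fun J _ _ => by
  haveI : PreservesLimitsOfShape J (lift X ⋙ sheafToPresheaf _ _) :=
    inferInstanceAs (PreservesLimitsOfShape J (sheafToPresheaf _ _ ⋙
      (Functor.whiskeringRight _ _ _).obj AddCommGrpCat.uliftFunctor.{u + 1, u}))
  exact preservesLimitsOfShape_of_reflects_of_preserves (lift X) (sheafToPresheaf _ _)⟩

theorem shortExact_lift {S : ShortComplex (Sheaf (Opens.grothendieckTopology X) AddCommGrpCat.{u})}
    (hS : S.ShortExact) : (S.map (lift X)).ShortExact := by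
  haveI := hS.mono_f
  haveI := hS.epi_g
  haveI : Sheaf.IsLocallySurjective S.g :=
    (Sheaf.isLocallySurjective_iff_epi' (A := AddCommGrpCat.{u}) S.g).2 inferInstance
  haveI : Sheaf.IsLocallySurjective (S.map (lift X)).g := ⟨fun {U} x s hs => by
    obtain ⟨W, i, ⟨y, hy⟩, hW⟩ := Presheaf.imageSieve_mem (Opens.grothendieckTopology X) S.g.hom x.down s hs
    exact ⟨W, i, ⟨ULift.up y, ULift.ext _ _ hy⟩, hW⟩⟩
  exact
    { exact := hS.exact.map_of_mono_of_preservesKernel (lift X) ‹_› inferInstance
      mono_f := inferInstanceAs (Mono ((lift X).map S.f))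
      epi_g := Sheaf.epi_of_isLocallySurjective _ }

/-- All opens, with the small covering families. -/
noncomputable def zarBasis : EtCechLib.Basis.{u + 1} (Opens.grothendieckTopology X) where
  B _ := True
  Cov U ι Y := Small.{u} ι ∧ Sieve.ofArrows (fun i => (Y i).left) (fun i => (Y i).hom) ∈
    Opens.grothendieckTopology X U
  mem _ _ _ h := h.2
  inter _ _ _ _ _ _ := trivial
  refine_ U _ T hT := by
    choose V f hf hx using fun x : {x : X // x ∈ U} => hT x.1 x.2
    exact ⟨ULift.{u + 1} {x : X // x ∈ U}, fun x => Over.mk (f x.down),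
      ⟨(inferInstance : Small.{u} (ULift.{u + 1} {x : X // x ∈ U})), by
        intro (x : X) (hxU : x ∈ U)
        exact ⟨V ⟨x, hxU⟩, f ⟨x, hxU⟩, Sieve.ofArrows_mk _ _ (ULift.up (⟨x, hxU⟩ : {x : X // x ∈ U})), hx ⟨x, hxU⟩⟩⟩,
      fun x => hf x.down⟩

variable {X}

theorem acyclic_lift (I : Sheaf (Opens.grothendieckTopology X) AddCommGrpCat.{u}) [Injective I] :
    (zarBasis X).Acyclic ((lift X).obj I) := by
  rintro U ι Y ⟨hι, -⟩ p
  haveI := hι
  haveI := EtCechLib.injective_obj I
  exact isZero_homology_ulift ((Over.forget U).op ⋙ I.obj) (equivShrink.{u} ι).symm Y p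
    (EtCechLib.isZero_homology_of_injective _ I.obj p)

theorem subsingleton_H_lift (I : Sheaf (Opens.grothendieckTopology X) AddCommGrpCat.{u}) [Injective I]
    (n : ℕ) : Subsingleton (EtZar.H ((lift X).obj I) (n + 1)) :=
  (zarBasis X).subsingleton_ext
    (fun g hg a => EtCechLib.exists_lift_const ((isTerminalTop : IsTerminal (⊤ : X.Opens))) g (hg _ trivial) a)
    (acyclic_lift I) n

/-- Universe change for cohomology. -/
theorem nonempty_H_lift (n : ℕ) : ∀ F : Sheaf (Opens.grothendieckTopology X) AddCommGrpCat.{u},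
    Nonempty (EtZar.H ((lift X).obj F) n ≃+ ULift.{u + 1} (Sheaf.H F n)) := by
  let c := (constantSheaf (Opens.grothendieckTopology X) AddCommGrpCat.{u}).obj
    (AddCommGrpCat.of (ULift.{u} ℤ))
  let c' := (constantSheaf (Opens.grothendieckTopology X) AddCommGrpCat.{u + 1}).obj
    (AddCommGrpCat.of (ULift.{u + 1} ℤ))
  let hT : IsTerminal (⊤ : X.Opens) := isTerminalTop
  induction n with
  | zero =>
    exact fun F => ⟨(Sheaf.H.equiv₀ _ hT).trans
      ((AddEquiv.ulift.trans (Sheaf.H.equiv₀ F hT).symm).trans AddEquiv.ulift.symm)⟩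
  | succ n ih =>
    intro F
    let S := injEmbed F
    have hS := injEmbed_shortExact F
    haveI : Injective S.X₂ := inferInstanceAs (Injective (Injective.under F))
    have hI : ∀ m, Subsingleton (Ext c S.X₂ (m + 1)) := fun m =>
      subsingleton_of_forall_eq 0 fun x => Ext.eq_zero_of_injective x
    have hL := shortExact_lift X hS
    have hI' : ∀ m, Subsingleton (Ext c' (S.map (lift X)).X₂ (m + 1)) := fun m => subsingleton_H_lift S.X₂ m
    cases n with
    | zero =>
      let e := Sheaf.H.equiv₀ S.X₃ hT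
      let e' := Sheaf.H.equiv₀ (S.map (lift X)).X₃ hT
      let φ : ULift.{u + 1} (S.X₃.obj.obj (op ⊤)) →+ EtZar.H ((lift X).obj F) 1 :=
        (connect c' hL 0).comp e'.symm.toAddMonoidHom
      let ψ : ULift.{u + 1} (S.X₃.obj.obj (op ⊤)) →+ ULift.{u + 1} (Sheaf.H F 1) :=
        AddEquiv.ulift.symm.toAddMonoidHom.comp
          ((connect c hS 0).comp (e.symm.toAddMonoidHom.comp AddEquiv.ulift.toAddMonoidHom))
      refine nonempty_addEquiv_of_ker_eq φ ψ ((connect_surjective c' hL 0 (hI' 0)).comp e'.symm.surjective)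
        ?_ fun x => ?_
      · intro z
        obtain ⟨w, hw⟩ := connect_surjective c hS 0 (hI 0) z.down
        exact ⟨ULift.up (e w), ULift.ext _ _ ((congrArg (connect c hS 0) (e.symm_apply_apply w)).trans hw)⟩
      have hl : φ x = 0 ↔ ∃ t : S.X₂.obj.obj (op ⊤), S.g.hom.app (op ⊤) t = x.down := by
        refine (connect_eq_zero_iff c' hL 0 _).trans ⟨fun ⟨y, hy⟩ => ?_, fun ⟨t, ht⟩ => ?_⟩
        · refine ⟨(Sheaf.H.equiv₀ (S.map (lift X)).X₂ hT y).down, ?_⟩
          have h := Sheaf.H.equiv₀_naturality hT (S.map (lift X)).g y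
          exact congrArg ULift.down (h.trans ((congrArg e' hy).trans (e'.apply_symm_apply x)))
        · refine ⟨(Sheaf.H.equiv₀ (S.map (lift X)).X₂ hT).symm (ULift.up t), ?_⟩
          exact (Sheaf.H.equiv₀_symm_naturality hT (S.map (lift X)).g (ULift.up t)).trans
            (congrArg e'.symm (ULift.ext _ _ ht))
      have hr : ψ x = 0 ↔ ∃ t : S.X₂.obj.obj (op ⊤), S.g.hom.app (op ⊤) t = x.down := by
        refine (map_eq_zero_iff _ AddEquiv.ulift.symm.injective).trans
          ((connect_eq_zero_iff c hS 0 _).trans ⟨fun ⟨y, hy⟩ => ?_, fun ⟨t, ht⟩ => ?_⟩)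
        · refine ⟨Sheaf.H.equiv₀ S.X₂ hT y, ?_⟩
          exact (Sheaf.H.equiv₀_naturality hT S.g y).trans
            ((congrArg e hy).trans (e.apply_symm_apply x.down))
        · refine ⟨(Sheaf.H.equiv₀ S.X₂ hT).symm t, ?_⟩
          exact (Sheaf.H.equiv₀_symm_naturality hT S.g t).trans (congrArg e.symm ht)
      exact hl.trans hr.symm
    | succ k =>
      obtain ⟨e₃⟩ := ih S.X₃
      exact ⟨(AddEquiv.ofBijective _ (connect_bijective c' hL (k + 1) (hI' k) (hI' (k + 1)))).symm.trans
        (e₃.trans ((AddEquiv.ulift.trans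
          (AddEquiv.ofBijective _ (connect_bijective c hS (k + 1) (hI k) (hI (k + 1))))).trans
            AddEquiv.ulift.symm))⟩

end Groth.Agent.Desc19b.EtQCoh
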