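import Groth.Agent.Desc19b.EtQCoh.Restr
import Groth.Agent.Desc19b.EtQCoh.ULiftH

/-!
# Étale cohomology of quasi-coherent modules is Zariski cohomology
-/

set_option autoImplicit false
set_option backward.isDefEq.respectTransparency false
set_option backward.isDefEq.respectTransparency.types false
set_option synthInstance.maxHeartbeats 400000
set_option linter.style.haveILetI false
set_option linter.unusedSectionVars false

universe u

open CategoryTheory CategoryTheory.Limits CategoryTheory.Abelian AlgebraicGeometry Opposite TopologicalSpace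
open Groth.Agent.Coherent Groth.Agent.PicLib Groth.Agent.Desc19b.QDesc

namespace Groth.Agent.Desc19b.EtQCoh

variable {X : Scheme.{u}} (F : X.Modules)

theorem tr₀_pl_open {U V : X.Opens} (h : V ≤ U) (m : Γ(F, U)) :
    tr₀ U.ι (X.homOfLE h) V.ι (X.homOfLE_ι h) F (pl U.ι F U.ι_preimage_self.ge m) =
      pl V.ι F V.ι_preimage_self.ge (resM F h m) := by
  rw [tr₀_def, pl_resM]
  exact tr_pl U.ι (X.homOfLE h) V.ι _ F _ _ m

/-- Sections over opens, as an additive equivalence. -/
noncomputable def openSec (U : X.Opens) :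
    ULift.{u + 1} Γ(F, U) ≃+ ULift.{u + 1} Γ((Scheme.Modules.pullback U.ι).obj F, ⊤) :=
  (AddEquiv.ulift.trans (AddEquiv.ofBijective (pl U.ι F U.ι_preimage_self.ge)
    (bijective_pl_of_opensRange U.ι F U.opensRange_ι.symm _))).trans AddEquiv.ulift.symm

/-- The Zariski sheaf of `F`, one universe up, is the restriction of the étale sheaf. -/
noncomputable def openSecIso : (Coh.toAb F).obj ⋙ AddCommGrpCat.uliftFunctor.{u + 1, u} ≅
    (EtZar.zarToEt X).op ⋙ etPresheaf F :=
  NatIso.ofComponents (fun U => AddEquiv.toAddCommGrpIso (openSec F U.unop)) fun {U V} g => by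
    ext m
    refine ULift.ext _ _ ?_
    exact (tr₀_pl_open F g.unop.le m.down).symm

variable [Coh.IsQCoh F]

/-- The restriction of an associated sheaf to the Zariski site. -/
noncomputable def resZarIso [EtZar.ZarCont X] {G : EtCoh.Ab X} (hG : EtAssoc.IsAssoc F G) :
    (lift X).obj (Coh.toAb F) ≅ (EtZar.resZar X).obj G :=
  (fullyFaithfulSheafToPresheaf _ _).preimageIso
    (openSecIso F ≪≫ Functor.isoWhiskerLeft (EtZar.zarToEt X).op (assocIso F hG).symm)

/-- Étale and Zariski cohomology of a quasi-coherent module agree. -/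
theorem nonempty_H_zariski [EtZar.ZarCont X] {G : EtCoh.Ab X} (hG : EtAssoc.IsAssoc F G) (q : ℕ) :
    Nonempty (EtCoh.H X G q ≃+ ULift.{u + 1} (Coh.HH X F q)) := by
  obtain ⟨a⟩ := nonempty_H_iso F hG q
  obtain ⟨b⟩ := nonempty_H_lift q (Coh.toAb F)
  exact ⟨a.trans (((Sheaf.functorH _ q).mapIso (resZarIso F hG).symm).addCommGroupIsoToAddEquiv.trans b)⟩

end Groth.Agent.Desc19b.EtQCoh

namespace Groth.Agent.Desc19b.EtQCoh

variable (X : Scheme.{u})

theorem coverPreserving_zarToEt :
    CoverPreserving (Opens.grothendieckTopology X) X.smallEtaleTopology (EtZar.zarToEt X) := by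
  refine ⟨fun {U S} hS => HenselLib.Kummer.mem_of_points _ _ ?_⟩
  intro (x : Scheme.Opens.toScheme (X := X) U)
  obtain ⟨V, f, hf, hxV⟩ := hS x.1 x.2
  refine ⟨(EtZar.zarToEt X).obj V, (EtZar.zarToEt X).map f, (⟨x.1, hxV⟩ : Scheme.Opens.toScheme (X := X) V),
    Sieve.image_mem_functorPushforward (EtZar.zarToEt X) S hf, ?_⟩
  exact Subtype.ext (congrArg (fun m => m (⟨x.1, hxV⟩ : Scheme.Opens.toScheme (X := X) V)) (X.homOfLE_ι f.le))

/-- Open coverings are étale coverings. -/
theorem zarCont : EtZar.ZarCont X :=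
  Functor.isContinuous_of_coverPreserving (compatiblePreservingOfFlat _ _) (coverPreserving_zarToEt X)

end Groth.Agent.Desc19b.EtQCoh
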