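import Groth.Agent.Desc19b.EtQCoh.Vanish
import Groth.Agent.EtZarCmp.Cohom
import Groth.Agent.EtCmp.RDeg

/-!
# Restriction to the Zariski site of the étale sheaf of a quasi-coherent module
-/

set_option autoImplicit false
set_option backward.isDefEq.respectTransparency false
set_option backward.isDefEq.respectTransparency.types false
set_option synthInstance.maxHeartbeats 400000
set_option linter.style.haveILetI false
set_option linter.unusedSectionVars false

universe u

open CategoryTheory CategoryTheory.Limits CategoryTheory.Abelian AlgebraicGeometry Opposite TopologicalSpace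
open Groth.Agent.EtCechLib

namespace Groth.Agent.Desc19b.EtQCoh

variable {X : Scheme.{u}} [EtZar.ZarCont X]

theorem epi_resZar_of_surjective {F G : EtCoh.Ab X} (g : F ⟶ G)
    (h : ∀ W : X.Opens, IsAffineOpen W → Function.Surjective (g.hom.app (op ((EtZar.zarToEt X).obj W)))) :
    Epi ((EtZar.resZar X).map g) := by
  haveI : Sheaf.IsLocallySurjective ((EtZar.resZar X).map g) := ⟨fun {U} x s hs => by
    obtain ⟨W, hW, hsW, hWU⟩ := exists_isAffineOpen_mem_and_subset (X := X) hs
    obtain ⟨y, hy⟩ := h W hW (G.obj.map ((EtZar.zarToEt X).map (homOfLE hWU)).op x)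
    exact ⟨W, homOfLE hWU, ⟨y, hy⟩, hsW⟩⟩
  exact Sheaf.epi_of_isLocallySurjective _

variable (F : X.Modules) [Coh.IsQCoh F]

/-- The higher direct images to the Zariski site of an associated sheaf vanish. -/
theorem isZero_rightDerived_resZar {G : EtCoh.Ab X} (hG : EtAssoc.IsAssoc F G) (q : ℕ) :
    IsZero (((EtZar.resZar X).rightDerived (q + 1)).obj G) := by
  haveI : ∀ U : X.Etale, HasFiniteProducts (Over U) := fun U => inferInstance
  refine EtCmp.isZero_rightDerived_of_class (EtZar.resZar X) (affBasis X).Acyclic (fun A hA => ?_) q G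
    (acyclic_of_isAssoc F hG)
  haveI : Injective (SiteCoh.injEmbed A).X₂ := inferInstanceAs (Injective (Injective.under A))
  refine ⟨SiteCoh.injEmbed A, SiteCoh.injEmbed_shortExact A, ⟨Iso.refl _⟩, fun n hn => ?_,
    epi_resZar_of_surjective _ fun W hW =>
      (affBasis X).surjective_sections (SiteCoh.injEmbed_shortExact A) hA hW,
    (affBasis X).acyclic_X₃ (SiteCoh.injEmbed_shortExact A) hA ((affBasis X).acyclic_of_injective _)⟩
  obtain ⟨k, rfl⟩ : ∃ k, n = k + 1 := ⟨n - 1, by omega⟩
  exact Functor.isZero_rightDerived_obj_injective_succ _ k _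

/-- Étale and Zariski cohomology of an associated sheaf agree. -/
theorem nonempty_H_iso {G : EtCoh.Ab X} (hG : EtAssoc.IsAssoc F G) (i : ℕ) :
    Nonempty (EtCoh.H X G i ≃+ EtZar.H ((EtZar.resZar X).obj G) i) := by
  let c := (constantSheaf (Opens.grothendieckTopology X) AddCommGrpCat.{u + 1}).obj
    (AddCommGrpCat.of (ULift.{u + 1} ℤ))
  have h := EtCmp.bijective_adjExtHom (EtZarCmp.zarAdj X) c i G (fun q hq => by
    obtain ⟨k, rfl⟩ : ∃ k, q = k + 1 := ⟨q - 1, by omega⟩
    exact isZero_rightDerived_resZar F hG k)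
  exact ⟨((AddEquiv.ofBijective _ h).trans (EtZarCmp.extIsoLeft (EtZarCmp.pullConstIso X _) i)).symm⟩

end Groth.Agent.Desc19b.EtQCoh
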