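import Groth.Agent.Desc19b.EtQCoh.Vanish
import Groth.Agent.PicLib.PullbackGen
import Groth.Prelude.Def_EtGm

/-!
# `G_a` is the étale sheaf of the structure module
-/

set_option autoImplicit false
set_option backward.isDefEq.respectTransparency false
set_option backward.isDefEq.respectTransparency.types false

universe u

open CategoryTheory CategoryTheory.Limits AlgebraicGeometry Opposite TopologicalSpace
open Groth.Agent.Desc19b.QDesc

namespace Groth.Agent.Desc19b.EtQCoh

variable {X Z : Scheme.{u}}

theorem isGen_one (X : Scheme.{u}) :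
    PicLib.IsGen (Coh.structureModule X) ⊤ (1 : Γ(X, ⊤)) := by
  intro W hW
  convert Function.bijective_id using 1
  funext r
  show r * X.presheaf.map (homOfLE hW).op 1 = r
  rw [map_one, mul_one]

/-- Functions, as sections of the pulled back structure module. -/
noncomputable def funSec (p : Z ⟶ X) : Γ(Z, ⊤) →+ Γ((Scheme.Modules.pullback p).obj (Coh.structureModule X), ⊤) where
  toFun r := r • pl p (Coh.structureModule X) (top_le p) (1 : Γ(X, ⊤))
  map_zero' := zero_smul Γ(Z, ⊤) _
  map_add' a b := add_smul a b _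

theorem funSec_bijective (p : Z ⟶ X) : Function.Bijective (funSec p) :=
  PicLib.isGen_pullSec p (isGen_one X)
    (PicLib.isInvertible_of_gens fun y => ⟨⊤, Opens.mem_top y, _, isGen_one X⟩) ⊤ (top_le p)

theorem tr₀_funSec {Z' : Scheme.{u}} (p : Z ⟶ X) (h : Z' ⟶ Z) (k : Z' ⟶ X) (hk : h ≫ p = k) (r : Γ(Z, ⊤)) :
    tr₀ p h k hk _ (funSec p r) = funSec k (h.appTop r) := by
  show tr₀ p h k hk _ (r • pl p (Coh.structureModule X) (top_le p) (1 : Γ(X, ⊤))) = _
  rw [tr₀_smul, tr₀_def]
  exact congrArg (fun x => h.appTop r • x) (tr_pl p h k hk (Coh.structureModule X) (top_le p) _ (1 : Γ(X, ⊤)))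

/-- `G_a` is associated to the structure module. -/
theorem isAssoc_Ga (X : Scheme.{u}) : EtAssoc.IsAssoc (Coh.structureModule X) (EtCoh.Ga X) :=
  ⟨fun U => (AddEquiv.ulift.trans (AddEquiv.ofBijective (funSec U.hom) (funSec_bijective U.hom))).trans
      AddEquiv.ulift.symm,
    fun U U' g s => ((resMap_eq (Coh.structureModule X) g _).trans
      (tr₀_funSec U.hom g.left U'.hom (CategoryTheory.Over.w g.hom) s.down)).symm⟩

end Groth.Agent.Desc19b.EtQCoh
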