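import Groth.Agent.Desc19b.EtQCoh.Zar
import Groth.Agent.Et18.ExtZero
import Groth.Agent.Et18.JCont
import Groth.Agent.Et18.Stalk

/-!
# Étale sheaves acyclic on affines: Zariski cohomology of the restriction
-/

set_option autoImplicit false
set_option backward.isDefEq.respectTransparency false
set_option backward.isDefEq.respectTransparency.types false
set_option synthInstance.maxHeartbeats 400000
set_option linter.style.haveILetI false
set_option linter.unusedSectionVars false

universe u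

open CategoryTheory CategoryTheory.Limits CategoryTheory.Abelian AlgebraicGeometry Opposite TopologicalSpace

namespace Groth.Agent.Desc19b.EtQCoh

variable {X : Scheme.{u}}

/-- Acyclic on affine objects. -/
def AffAcyclic (G : EtCoh.Ab X) : Prop :=
  ∀ (T : X.Etale), IsAffine T.left → ∀ i : ℕ,
    Subsingleton (EtCoh.H T.left ((EtCoh.pull T.hom).obj G) (i + 1))

theorem subsingleton_H_pull_injective (T : X.Etale) (I : EtCoh.Ab X) [Injective I] (i : ℕ) :
    Subsingleton (EtCoh.H T.left ((EtCoh.pull T.hom).obj I) (i + 1)) := by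
  haveI : Etale T.hom := T.prop
  haveI : EtShriek.JCont T.hom := Et18.jCont T.hom
  haveI : Injective ((EtShriek.restrAlong T.hom).obj I) :=
    Injective.injective_of_adjoint (EtShriek.extZeroAdj T.hom) I
  haveI : Injective ((EtCoh.pull T.hom).obj I) :=
    Injective.of_iso ((Et18.pullRestrIso T.hom).symm.app I) inferInstance
  exact subsingleton_of_forall_eq 0 fun x => Ext.eq_zero_of_injective x

theorem shortExact_pull (T : X.Etale) {S : ShortComplex (EtCoh.Ab X)} (hS : S.ShortExact) :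
    (S.map (EtCoh.pull T.hom)).ShortExact := hS.map_of_exact _

theorem surjective_sections {S : ShortComplex (EtCoh.Ab X)} (hS : S.ShortExact) (T : X.Etale)
    (h : Subsingleton (EtCoh.H T.left ((EtCoh.pull T.hom).obj S.X₁) 1)) :
    Function.Surjective (S.g.hom.app (op T)) := by
  haveI : Etale T.hom := T.prop
  haveI : EtShriek.JCont T.hom := Et18.jCont T.hom
  let hp := shortExact_pull T hS
  let c := (constantSheaf T.left.smallEtaleTopology AddCommGrpCat.{u + 1}).obj (AddCommGrpCat.of (ULift.{u + 1} ℤ))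
  have hT := EtCore.topIsTerminal T.left
  have h₁ : Function.Surjective
      (((EtShriek.restrAlong T.hom).map S.g).hom.app (op (EtCoh.top T.left))) := fun x => by
    obtain ⟨x', rfl⟩ : ∃ x', ((Et18.pullRestrIso T.hom).hom.app S.X₃).hom.app (op (EtCoh.top T.left)) x' = x :=
      (ConcreteCategory.bijective_of_isIso
        (((Et18.pullRestrIso T.hom).app S.X₃).hom.hom.app (op (EtCoh.top T.left)))).2 x
    obtain ⟨y, hy⟩ := (connect_eq_zero_iff c hp 0 ((Sheaf.H.equiv₀ _ hT).symm x')).1 (@Subsingleton.elim _ h _ _)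
    refine ⟨((Et18.pullRestrIso T.hom).hom.app S.X₂).hom.app (op (EtCoh.top T.left)) (Sheaf.H.equiv₀ _ hT y), ?_⟩
    have e := congr_arg (fun m : (EtCoh.pull T.hom).obj S.X₂ ⟶ (EtShriek.restrAlong T.hom).obj S.X₃ =>
      m.hom.app (op (EtCoh.top T.left)) (Sheaf.H.equiv₀ _ hT y)) ((Et18.pullRestrIso T.hom).hom.naturality S.g)
    refine Eq.trans e.symm ?_
    show ((Et18.pullRestrIso T.hom).hom.app S.X₃).hom.app (op (EtCoh.top T.left))
      (((EtCoh.pull T.hom).map S.g).hom.app (op (EtCoh.top T.left)) (Sheaf.H.equiv₀ _ hT y)) = _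
    refine congrArg _ ?_
    exact (Sheaf.H.equiv₀_naturality hT (S.map (EtCoh.pull T.hom)).g y).trans
      ((congrArg (Sheaf.H.equiv₀ _ hT) hy).trans ((Sheaf.H.equiv₀ _ hT).apply_symm_apply x'))
  let e : (EtShriek.compEtale T.hom).obj (EtCoh.top T.left) ≅ T :=
    MorphismProperty.Over.isoMk (Iso.refl _) (by show 𝟙 _ ≫ T.hom = 𝟙 _ ≫ T.hom; rfl)
  intro x
  obtain ⟨z, hz⟩ := h₁ (S.X₃.obj.map e.hom.op x)
  refine ⟨S.X₂.obj.map e.inv.op z, ?_⟩
  rw [NatTrans.naturality_apply]
  refine (congrArg (S.X₃.obj.map e.inv.op) hz).trans ?_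
  rw [← ConcreteCategory.comp_apply, ← Functor.map_comp, ← op_comp, e.inv_hom_id, op_id]
  exact ConcreteCategory.congr_hom (S.X₃.obj.map_id _) x

theorem affAcyclic_X₃ {S : ShortComplex (EtCoh.Ab X)} (hS : S.ShortExact) (h₁ : AffAcyclic S.X₁)
    (h₂ : AffAcyclic S.X₂) : AffAcyclic S.X₃ := fun T hT i => by
  let hp := shortExact_pull T hS
  let c := (constantSheaf T.left.smallEtaleTopology AddCommGrpCat.{u + 1}).obj (AddCommGrpCat.of (ULift.{u + 1} ℤ))
  exact @Function.Injective.subsingleton _ _ _ (connect_bijective c hp (i + 1) (h₂ T hT i) (h₂ T hT (i + 1))).1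
    (h₁ T hT (i + 1))

theorem isZero_rightDerived_resZar_of_affAcyclic [EtZar.ZarCont X] {G : EtCoh.Ab X} (hG : AffAcyclic G) (q : ℕ) :
    IsZero (((EtZar.resZar X).rightDerived (q + 1)).obj G) := by
  refine EtCmp.isZero_rightDerived_of_class (EtZar.resZar X) AffAcyclic (fun A hA => ?_) q G hG
  haveI : Injective (SiteCoh.injEmbed A).X₂ := inferInstanceAs (Injective (Injective.under A))
  refine ⟨SiteCoh.injEmbed A, SiteCoh.injEmbed_shortExact A, ⟨Iso.refl _⟩, fun n hn => ?_,
    epi_resZar_of_surjective _ fun W hW =>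
      surjective_sections (SiteCoh.injEmbed_shortExact A) _ (hA ((EtZar.zarToEt X).obj W) hW 0),
    affAcyclic_X₃ (SiteCoh.injEmbed_shortExact A) hA (fun T _ i => subsingleton_H_pull_injective T _ i)⟩
  obtain ⟨k, rfl⟩ : ∃ k, n = k + 1 := ⟨n - 1, by omega⟩
  exact Functor.isZero_rightDerived_obj_injective_succ _ k _

theorem nonempty_H_iso_of_affAcyclic [EtZar.ZarCont X] {G : EtCoh.Ab X} (hG : AffAcyclic G) (i : ℕ) :
    Nonempty (EtCoh.H X G i ≃+ EtZar.H ((EtZar.resZar X).obj G) i) := by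
  let c := (constantSheaf (Opens.grothendieckTopology X) AddCommGrpCat.{u + 1}).obj
    (AddCommGrpCat.of (ULift.{u + 1} ℤ))
  have h := EtCmp.bijective_adjExtHom (EtZarCmp.zarAdj X) c i G (fun q hq => by
    obtain ⟨k, rfl⟩ : ∃ k, q = k + 1 := ⟨q - 1, by omega⟩
    exact isZero_rightDerived_resZar_of_affAcyclic hG k)
  exact ⟨((AddEquiv.ofBijective _ h).trans (EtZarCmp.extIsoLeft (EtZarCmp.pullConstIso X _) i)).symm⟩

end Groth.Agent.Desc19b.EtQCoh
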