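import Mathlib.RingTheory.Flat.Basic
import Mathlib.RingTheory.Ideal.Maximal
import Mathlib.RingTheory.Spectrum.Prime.Basic
import Mathlib.LinearAlgebra.TensorProduct.Quotient
import Mathlib.RingTheory.Spectrum.Prime.RingHom

/-! Membership in the range of a linear map descends along a jointly faithfully flat family. -/

set_option autoImplicit false

universe u v v' w

open TensorProduct

namespace Groth.Agent.Desc19b.EtQCoh

theorem mem_range_of_family {A : Type u} [CommRing A] {κ : Type w} (B : κ → Type u) [∀ k, CommRing (B k)]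
    [∀ k, Algebra A (B k)] [∀ k, Module.Flat A (B k)]
    (hcov : ∀ p : PrimeSpectrum A, ∃ (k : κ) (q : PrimeSpectrum (B k)), PrimeSpectrum.comap (algebraMap A (B k)) q = p)
    {M : Type v} [AddCommGroup M] [Module A M] {N : Type v'} [AddCommGroup N] [Module A N] (d : M →ₗ[A] N) {x : N}
    (h : ∀ k, (1 : B k) ⊗ₜ[A] x ∈ LinearMap.range (d.lTensor (B k))) : x ∈ LinearMap.range d := by
  rw [← Submodule.Quotient.mk_eq_zero]
  by_contra hc
  let c : N ⧸ LinearMap.range d := Submodule.Quotient.mk x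
  let I : Ideal A := LinearMap.ker (LinearMap.toSpanSingleton A _ c)
  have hI : I ≠ ⊤ := fun e => hc ((one_smul A c).symm.trans (show (1 : A) ∈ I from e ▸ Submodule.mem_top))
  obtain ⟨m, hm, hIm⟩ := Ideal.exists_le_maximal I hI
  obtain ⟨k, q, hq⟩ := hcov ⟨m, hm.isPrime⟩
  let g : (A ⧸ I) →ₗ[A] N ⧸ LinearMap.range d := I.liftQ (LinearMap.toSpanSingleton A _ c) le_rfl
  have hg : Function.Injective g := LinearMap.ker_eq_bot.1 (Submodule.ker_liftQ_eq_bot _ _ _ le_rfl)
  have h0 : (1 : B k) ⊗ₜ[A] c = 0 := by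
    obtain ⟨t, ht⟩ := h k
    show (LinearMap.range d).mkQ.lTensor (B k) ((1 : B k) ⊗ₜ[A] x) = 0
    rw [← ht, ← LinearMap.comp_apply, ← LinearMap.lTensor_comp, LinearMap.range_mkQ_comp, LinearMap.lTensor_zero,
      LinearMap.zero_apply]
  have h4 : (1 : B k) ⊗ₜ[A] (Ideal.Quotient.mk I 1) = 0 := by
    refine Module.Flat.lTensor_preserves_injective_linearMap (M := B k) g hg ?_
    rw [map_zero, LinearMap.lTensor_tmul]
    have e : g (Ideal.Quotient.mk I 1) = c := one_smul A c
    rw [e]
    exact h0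
  have h5 := congrArg (TensorProduct.tensorQuotEquivQuotSMul (B k) I) h4
  erw [TensorProduct.tensorQuotEquivQuotSMul_tmul_mk, map_zero, Submodule.Quotient.mk_eq_zero, one_smul] at h5
  rw [Ideal.smul_top_eq_map, Submodule.restrictScalars_mem] at h5
  refine q.isPrime.ne_top ((Ideal.eq_top_iff_one _).2 ((Ideal.map_le_iff_le_comap.2 fun a ha => ?_) h5))
  have e := congrArg PrimeSpectrum.asIdeal hq
  exact (e.ge (hIm ha) :)

end Groth.Agent.Desc19b.EtQCoh
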