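import Groth.Agent.Desc19b.QDesc.EtSheaf
import Groth.Agent.Desc19b.EtQCoh.Range
import Groth.Agent.SiteCoh.Cech

/-!
# Čech acyclicity of quasi-coherent modules on finite affine étale coverings of affines
-/

set_option autoImplicit false
set_option backward.isDefEq.respectTransparency false
set_option backward.isDefEq.respectTransparency.types false
set_option linter.style.haveILetI false
set_option linter.unusedSectionVars false

universe u

open CategoryTheory CategoryTheory.Limits AlgebraicGeometry Opposite TopologicalSpace TensorProduct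
open Groth.Agent.Desc19b.QDesc Groth.Agent.SiteCoh

namespace Groth.Agent.Desc19b.EtQCoh

variable {S : Scheme.{u}} (F : S.Modules) {U : S.Etale}

/-- Sections of `F` over an object over `U`, as a module over the functions of `U`. -/
abbrev Mod (Z : Over U) : Type u :=
  Sec Z.hom.left ((Scheme.Modules.pullback Z.left.hom).obj F)

/-- The presheaf on `Over U`. -/
noncomputable abbrev psh (U : S.Etale) : (Over U)ᵒᵖ ⥤ AddCommGrpCat.{u + 1} :=
  (Over.forget U).op ⋙ etPresheaf F

/-- From the presheaf to the modules. -/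
noncomputable def toMod (Z : Over U) : (psh F U).obj (op Z) →+ Mod F Z where
  toFun s := ⟨s.down⟩
  map_zero' := rfl
  map_add' _ _ := rfl

theorem toMod_bijective (Z : Over U) : Function.Bijective (toMod F Z) :=
  ⟨fun _ _ h => ULift.ext _ _ (congrArg Sec.val h), fun y => ⟨ULift.up y.val, rfl⟩⟩

theorem over_hom_left {Z Z' : Over U} (g : Z ⟶ Z') : g.left.left ≫ Z'.hom.left = Z.hom.left :=
  congrArg (fun h : Z.left ⟶ U => h.left) (Over.w g)

/-- Restriction. -/
noncomputable def pm {Z Z' : Over U} (g : Z ⟶ Z') : Mod F Z' →ₗ[Γ(U.left, ⊤)] Mod F Z where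
  toFun x := ⟨tr₀ Z'.left.hom g.left.left Z.left.hom (CategoryTheory.Over.w g.left.hom) F x.val⟩
  map_add' x y := Sec.ext (by simp only [Sec.val_add, map_add])
  map_smul' r x := Sec.ext (by
    simp only [Sec.val_smul, RingHom.id_apply]
    rw [tr₀_smul, ← over_hom_left g, Scheme.Hom.comp_appTop]
    rfl)

theorem toMod_map {Z Z' : Over U} (g : Z ⟶ Z') (x : (psh F U).obj (op Z')) :
    toMod F Z ((psh F U).map g.op x) = pm F g (toMod F Z' x) := rfl

instance etale_hom_left (Z : Over U) : AlgebraicGeometry.Etale Z.hom.left := by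
  haveI : AlgebraicGeometry.Etale U.hom := U.prop
  haveI : AlgebraicGeometry.Etale (Z.hom.left ≫ U.hom) := by
    rw [show Z.hom.left ≫ U.hom = Z.left.hom from CategoryTheory.Over.w Z.hom.hom]
    exact Z.left.prop
  exact Etale.of_comp Z.hom.left U.hom

/-- The fibre product with a member, as an object over `U`. -/
noncomputable def prodObj (A Z : Over U) : Over U :=
  haveI : AlgebraicGeometry.Etale U.hom := U.prop
  Over.mk (MorphismProperty.Over.homMk (pullback.fst A.hom.left Z.hom.left ≫ A.hom.left) rfl :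
    Scheme.Etale.mk ((pullback.fst A.hom.left Z.hom.left ≫ A.hom.left) ≫ U.hom) ⟶ U)

theorem prodObj_fst_w (A Z : Over U) :
    pullback.fst A.hom.left Z.hom.left ≫ A.left.hom =
      (pullback.fst A.hom.left Z.hom.left ≫ A.hom.left) ≫ U.hom := by
  rw [Category.assoc]
  exact congrArg _ (CategoryTheory.Over.w A.hom.hom).symm

theorem prodObj_snd_w (A Z : Over U) :
    pullback.snd A.hom.left Z.hom.left ≫ Z.left.hom =
      (pullback.fst A.hom.left Z.hom.left ≫ A.hom.left) ≫ U.hom := by
  rw [pullback.condition, Category.assoc]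
  exact congrArg _ (CategoryTheory.Over.w Z.hom.hom).symm

/-- First projection. -/
noncomputable def prodFst (A Z : Over U) : prodObj A Z ⟶ A :=
  Over.homMk (MorphismProperty.Over.homMk (pullback.fst A.hom.left Z.hom.left) (prodObj_fst_w A Z))
    (MorphismProperty.Over.Hom.ext rfl)

/-- Second projection. -/
noncomputable def prodSnd (A Z : Over U) : prodObj A Z ⟶ Z :=
  Over.homMk (MorphismProperty.Over.homMk (pullback.snd A.hom.left Z.hom.left) (prodObj_snd_w A Z))
    (MorphismProperty.Over.Hom.ext pullback.condition.symm)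

/-- Functoriality. -/
noncomputable def prodMap (A : Over U) {Z Z' : Over U} (g : Z ⟶ Z') : prodObj A Z ⟶ prodObj A Z' :=
  Over.homMk (MorphismProperty.Over.homMk
      (pullback.lift (pullback.fst A.hom.left Z.hom.left) (pullback.snd A.hom.left Z.hom.left ≫ g.left.left)
        (by rw [pullback.condition, Category.assoc, over_hom_left g]))
      (by
        show _ ≫ (pullback.fst A.hom.left Z'.hom.left ≫ A.hom.left) ≫ U.hom = _
        exact ((Category.assoc _ _ _).symm.trans (congrArg (fun h => h ≫ U.hom)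
          ((Category.assoc _ _ _).symm.trans (congrArg (fun h => h ≫ A.hom.left) (pullback.lift_fst _ _ _))))))) 
    (MorphismProperty.Over.Hom.ext (by
      show _ ≫ pullback.fst A.hom.left Z'.hom.left ≫ A.hom.left = _
      exact (Category.assoc _ _ _).symm.trans (congrArg (fun h => h ≫ A.hom.left) (pullback.lift_fst _ _ _))))

theorem prodMap_fst (A : Over U) {Z Z' : Over U} (g : Z ⟶ Z') : prodMap A g ≫ prodFst A Z' = prodFst A Z :=
  Over.OverMorphism.ext (MorphismProperty.Over.Hom.ext (pullback.lift_fst _ _ _))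

theorem prodMap_snd (A : Over U) {Z Z' : Over U} (g : Z ⟶ Z') :
    prodMap A g ≫ prodSnd A Z' = prodSnd A Z ≫ g :=
  Over.OverMorphism.ext (MorphismProperty.Over.Hom.ext (pullback.lift_snd _ _ _))

variable [Coh.IsQCoh F] [HasFiniteProducts (Over U)] {ι : Type (u + 1)} (Y : ι → Over U)

/-- Cochains, as a module. -/
abbrev Cn (p : ℕ) : Type (u + 1) := ∀ a : Fin (p + 1) → ι, Mod F (Cech.inter Y a)

/-- Components. -/
noncomputable def toCn (p : ℕ) : (Cech.cx (psh F U) Y).X p →+ Cn F Y p where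
  toFun x a := toMod F _ (Cech.ev (psh F U) Y a x)
  map_zero' := funext fun a => by rw [map_zero, map_zero]; rfl
  map_add' x y := funext fun a => by rw [map_add, map_add]; rfl

theorem toCn_bijective (p : ℕ) : Function.Bijective (toCn F Y p) := by
  refine ⟨fun x y h => Cech.ext _ _ fun a => (toMod_bijective F _).1 (congrFun h a), fun n => ?_⟩
  choose x hx using fun a => (toMod_bijective F (Cech.inter Y a)).2 (n a)
  exact ⟨Cech.mk _ Y x, funext fun a => (congrArg (toMod F _) (Cech.ev_mk (psh F U) Y x a)).trans (hx a)⟩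

/-- The differential. -/
noncomputable def dCn (p : ℕ) : Cn F Y p →ₗ[Γ(U.left, ⊤)] Cn F Y (p + 1) :=
  LinearMap.pi fun a => ∑ j : Fin (p + 2), (-1 : ℤ) ^ (j : ℕ) •
    (pm F (Cech.face Y a j)).comp (LinearMap.proj (a ∘ j.succAbove))

theorem dCn_apply (p : ℕ) (n : Cn F Y p) (a : Fin (p + 2) → ι) :
    dCn F Y p n a = ∑ j : Fin (p + 2), (-1 : ℤ) ^ (j : ℕ) • pm F (Cech.face Y a j) (n (a ∘ j.succAbove)) := by
  simp only [dCn, LinearMap.pi_apply, LinearMap.sum_apply, LinearMap.smul_apply, LinearMap.comp_apply,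
    LinearMap.proj_apply]

theorem toCn_d (p : ℕ) (x : (Cech.cx (psh F U) Y).X p) :
    toCn F Y (p + 1) ((Cech.cx (psh F U) Y).d p (p + 1) x) = dCn F Y p (toCn F Y p x) := funext fun a => by
  rw [dCn_apply]
  show toMod F _ (Cech.ev (psh F U) Y a _) = _
  rw [Cech.ev_d, map_sum]
  refine Finset.sum_congr rfl fun j _ => ?_
  rw [map_zsmul, toMod_map]
  rfl

/-- Cochains on the products with a member. -/
abbrev Cp (l : ι) (p : ℕ) : Type (u + 1) := ∀ a : Fin (p + 1) → ι, Mod F (prodObj (Y l) (Cech.inter Y a))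

/-- Base change to a member. -/
noncomputable def theta (l : ι) (p : ℕ) : Fn (Y l).hom.left ⊗[Γ(U.left, ⊤)] Cn F Y p →ₗ[Γ(U.left, ⊤)] Cp F Y l p :=
  LinearMap.pi fun a => (bcMul (Y l).hom.left (Cech.inter Y a).hom.left (Cech.inter Y a).left.hom F
      (tP := pullback.fst _ _ ≫ (Y l).hom.left) rfl
      ((pullback.fst (Y l).hom.left (Cech.inter Y a).hom.left ≫ (Y l).hom.left) ≫ U.hom)
      (prodObj_snd_w (Y l) (Cech.inter Y a))).comp
    (LinearMap.lTensor (Fn (Y l).hom.left) (LinearMap.proj a))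

theorem theta_tmul (l : ι) (p : ℕ) (s : Fn (Y l).hom.left) (n : Cn F Y p) (a : Fin (p + 1) → ι) :
    (theta F Y l p (s ⊗ₜ n) a).val =
      (pullback.fst (Y l).hom.left (Cech.inter Y a).hom.left).appTop (show Γ((Y l).left.left, ⊤) from s) •
        (pm F (prodSnd (Y l) (Cech.inter Y a)) (n a)).val := rfl

theorem theta_one_tmul (l : ι) (p : ℕ) (n : Cn F Y p) (a : Fin (p + 1) → ι) :
    theta F Y l p ((1 : Fn (Y l).hom.left) ⊗ₜ n) a = pm F (prodSnd (Y l) (Cech.inter Y a)) (n a) := by
  refine Sec.ext ?_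
  rw [theta_tmul]
  show (pullback.fst (Y l).hom.left (Cech.inter Y a).hom.left).appTop (1 : Γ((Y l).left.left, ⊤)) • _ = _
  rw [map_one]
  exact one_smul _ _

theorem pm_prodMap_theta (l : ι) (p : ℕ) (s : Fn (Y l).hom.left) (n : Cn F Y p) (a : Fin (p + 2) → ι)
    (j : Fin (p + 2)) :
    (pm F (prodMap (Y l) (Cech.face Y a j)) (theta F Y l p (s ⊗ₜ n) (a ∘ j.succAbove))).val =
      (pullback.fst (Y l).hom.left (Cech.inter Y a).hom.left).appTop (show Γ((Y l).left.left, ⊤) from s) •
        (pm F (prodSnd (Y l) (Cech.inter Y a)) (pm F (Cech.face Y a j) (n (a ∘ j.succAbove)))).val := by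
  show tr₀ _ _ _ _ F (theta F Y l p (s ⊗ₜ n) (a ∘ j.succAbove)).val = _
  rw [theta_tmul, tr₀_smul]
  refine congrArg₂ (fun c x => c • x) ?_ ?_
  · refine (ConcreteCategory.congr_hom (Scheme.Hom.comp_appTop (prodMap (Y l) (Cech.face Y a j)).left.left
      (pullback.fst (Y l).hom.left (Cech.inter Y (a ∘ j.succAbove)).hom.left)) _).symm.trans ?_
    exact congrArg (fun h : _ ⟶ (Y l).left.left => h.appTop (show Γ((Y l).left.left, ⊤) from s))
      (pullback.lift_fst (pullback.fst (Y l).hom.left (Cech.inter Y a).hom.left) _ _)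
  · show tr₀ _ _ _ _ F (tr₀ _ _ _ _ F (n (a ∘ j.succAbove)).val) = tr₀ _ _ _ _ F (tr₀ _ _ _ _ F (n (a ∘ j.succAbove)).val)
    rw [tr₀_tr₀, tr₀_tr₀]
    exact tr₀_congr _ (congrArg (fun h : prodObj (Y l) (Cech.inter Y a) ⟶ Cech.inter Y (a ∘ j.succAbove) => h.left.left)
      (prodMap_snd (Y l) (Cech.face Y a j))) _ _ _ _

theorem theta_lTensor_d (l : ι) (p : ℕ) (z : Fn (Y l).hom.left ⊗[Γ(U.left, ⊤)] Cn F Y p) (a : Fin (p + 2) → ι) :
    theta F Y l (p + 1) (LinearMap.lTensor (Fn (Y l).hom.left) (dCn F Y p) z) a =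
      ∑ j : Fin (p + 2), (-1 : ℤ) ^ (j : ℕ) •
        pm F (prodMap (Y l) (Cech.face Y a j)) (theta F Y l p z (a ∘ j.succAbove)) := by
  induction z using TensorProduct.induction_on with
  | zero => simp only [map_zero, Pi.zero_apply, smul_zero, Finset.sum_const_zero]
  | add u v hu hv =>
    simp only [map_add, Pi.add_apply, smul_add, Finset.sum_add_distrib, hu, hv]
  | tmul s n =>
    refine (Sec.val_bijective).1 ?_
    rw [LinearMap.lTensor_tmul, theta_tmul, dCn_apply, map_sum]
    simp only [map_zsmul]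
    refine Eq.trans ?_ (map_sum Sec.valHom _ Finset.univ).symm
    refine (congrArg _ (map_sum Sec.valHom _ Finset.univ)).trans ?_
    rw [Finset.smul_sum]
    refine Finset.sum_congr rfl fun j _ => ?_
    rw [map_zsmul, map_zsmul, smul_comm]
    exact congrArg _ (pm_prodMap_theta F Y l p s n a j).symm

/-- The tuple starting with the member. -/
noncomputable def consTuple (l : ι) {p : ℕ} (a : Fin (p + 1) → ι) :
    Fin (p + 2) → (i : ι) × (prodObj (Y l) (Cech.inter Y a) ⟶ Y i) :=
  Fin.cons ⟨l, prodFst (Y l) _⟩ (fun k => ⟨a k, prodSnd (Y l) _ ≫ Pi.π (fun k => Y (a k)) k⟩)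

theorem consTuple_face (l : ι) {p : ℕ} (a : Fin (p + 2) → ι) (j : Fin (p + 2)) :
    (fun k => (⟨(consTuple Y l (a ∘ j.succAbove) k).1,
        prodMap (Y l) (Cech.face Y a j) ≫ (consTuple Y l (a ∘ j.succAbove) k).2⟩ :
          (i : ι) × (prodObj (Y l) (Cech.inter Y a) ⟶ Y i))) = consTuple Y l a ∘ j.succ.succAbove := by
  funext k
  refine Fin.cases ?_ (fun k => ?_) k
  · rw [Function.comp_apply, Fin.succ_succAbove_zero]
    exact congrArg (fun h => (⟨l, h⟩ : (i : ι) × (prodObj (Y l) (Cech.inter Y a) ⟶ Y i)))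
      (prodMap_fst (Y l) (Cech.face Y a j))
  · rw [Function.comp_apply, Fin.succ_succAbove_succ]
    show (⟨a (j.succAbove k), prodMap (Y l) (Cech.face Y a j) ≫ prodSnd (Y l) _ ≫
        Pi.π (fun k => Y (a (j.succAbove k))) k⟩ : (i : ι) × (prodObj (Y l) (Cech.inter Y a) ⟶ Y i)) =
      ⟨a (j.succAbove k), prodSnd (Y l) _ ≫ Pi.π (fun k => Y (a k)) (j.succAbove k)⟩
    rw [← Category.assoc, prodMap_snd, Category.assoc]
    exact congrArg (fun h => (⟨a (j.succAbove k), prodSnd (Y l) _ ≫ h⟩ :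
      (i : ι) × (prodObj (Y l) (Cech.inter Y a) ⟶ Y i))) (Pi.lift_π _ _)

theorem exists_lTensor_d_eq (l : ι) (p : ℕ) (hθ : Function.Surjective (theta F Y l p))
    (hθ' : Function.Injective (theta F Y l (p + 1))) (c : (Cech.cx (psh F U) Y).X (p + 1))
    (hc : (Cech.cx (psh F U) Y).d (p + 1) (p + 2) c = 0) :
    (1 : Fn (Y l).hom.left) ⊗ₜ[Γ(U.left, ⊤)] toCn F Y (p + 1) c ∈
      LinearMap.range (LinearMap.lTensor (Fn (Y l).hom.left) (dCn F Y p)) := by
  obtain ⟨z, hz⟩ := hθ fun a => toMod F _ (Cech.val (psh F U) Y c (consTuple Y l a))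
  refine ⟨z, hθ' (funext fun a => ?_)⟩
  rw [theta_lTensor_d, theta_one_tmul, hz]
  show _ = pm F (prodSnd (Y l) (Cech.inter Y a)) (toMod F _ (Cech.ev (psh F U) Y a c))
  rw [← toMod_map, Cech.map_ev]
  have key := Cech.val_d (psh F U) Y c (consTuple Y l a)
  rw [hc, Cech.val, map_zero, map_zero, Fin.sum_univ_succ] at key
  simp only [Fin.val_zero, pow_zero, one_zsmul, Fin.val_succ, pow_succ, mul_neg_one, neg_smul,
    Finset.sum_neg_distrib] at key
  have h1 : Cech.val (psh F U) Y c (consTuple Y l a ∘ (0 : Fin (p + 3)).succAbove) =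
      Cech.val (psh F U) Y c (fun k => ⟨a k, prodSnd (Y l) _ ≫ Pi.π (fun k => Y (a k)) k⟩) :=
    congrArg _ (funext fun k => by simp [consTuple, Fin.succAbove_zero])
  rw [h1] at key
  have h2 := eq_of_sub_eq_zero ((sub_eq_add_neg _ _).trans key.symm)
  rw [h2, map_sum]
  refine Finset.sum_congr rfl fun j _ => ?_
  rw [map_zsmul, ← toMod_map, Cech.map_val, consTuple_face]

theorem bijective_theta (l : ι) (p : ℕ) [Finite ι] [IsAffine U.left] [IsAffine (Y l).left.left]
    (hI : ∀ a : Fin (p + 1) → ι, IsAffine (Cech.inter Y a).left.left) : Function.Bijective (theta F Y l p) := by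
  classical
  haveI := fun a => hI a
  cases nonempty_fintype (Fin (p + 1) → ι)
  have : ⇑(theta F Y l p) = (fun y a => bcMul (Y l).hom.left (Cech.inter Y a).hom.left (Cech.inter Y a).left.hom F
      (tP := pullback.fst _ _ ≫ (Y l).hom.left) rfl
      ((pullback.fst (Y l).hom.left (Cech.inter Y a).hom.left ≫ (Y l).hom.left) ≫ U.hom)
      (prodObj_snd_w (Y l) (Cech.inter Y a)) (y a)) ∘
      ⇑(piRight Γ(U.left, ⊤) Γ(U.left, ⊤) (Fn (Y l).hom.left) (fun a => Mod F (Cech.inter Y a))) :=
    funext fun z => funext fun a => by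
      induction z using TensorProduct.induction_on with
      | zero => simp only [Function.comp_apply, map_zero, Pi.zero_apply]
      | add u v hu hv =>
        simp only [Function.comp_apply, map_add, Pi.add_apply] at hu hv ⊢
        rw [hu, hv]
      | tmul s n => rfl
  rw [this]
  exact (Function.Bijective.piMap fun a => bijective_bcMul (Y l).hom.left (Cech.inter Y a).hom.left
    (Cech.inter Y a).left.hom F rfl _ _).comp (LinearEquiv.bijective _)

/-- Čech acyclicity. -/
theorem isZero_homology [Finite ι] [IsAffine U.left] (hY : ∀ l, IsAffine (Y l).left.left)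
    (hI : ∀ (p : ℕ) (a : Fin (p + 1) → ι), IsAffine (Cech.inter Y a).left.left)
    (hsurj : ∀ x : U.left, ∃ (l : ι) (y : (Y l).left.left), (Y l).hom.left y = x) (p : ℕ) :
    IsZero ((Cech.cx (psh F U) Y).homology (p + 1)) := by
  haveI := hY
  rw [Cech.isZero_homology_succ_iff]
  intro c hc
  haveI : ∀ l, Flat (Y l).hom.left := fun l => inferInstance
  haveI : ∀ l, Module.Flat Γ(U.left, ⊤) (Fn (Y l).hom.left) := fun l => (Y l).hom.left.flat_appTop
  have hcov : ∀ q : PrimeSpectrum Γ(U.left, ⊤), ∃ (l : ι) (r : PrimeSpectrum (Fn (Y l).hom.left)),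
      PrimeSpectrum.comap (algebraMap Γ(U.left, ⊤) (Fn (Y l).hom.left)) r = q := fun q => by
    obtain ⟨⟨w, hw⟩, rfl⟩ : ∃ y : (⊤ : U.left.Opens), (isAffineOpen_top U.left).primeIdealOf y = q :=
      (isAffineOpen_top U.left).isoSpec.hom.homeomorph.surjective q
    obtain ⟨l, y, rfl⟩ := hsurj w
    obtain ⟨r, hr⟩ := exists_comap_appTop (Y l).hom.left y
    exact ⟨l, r, hr⟩
  obtain ⟨n, hn⟩ := mem_range_of_family (fun l => Fn (Y l).hom.left) hcov (dCn F Y p) fun l =>
    exists_lTensor_d_eq F Y l p (bijective_theta F Y l p (hI p)).2 (bijective_theta F Y l (p + 1) (hI (p + 1))).1 c hc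
  obtain ⟨b, rfl⟩ := (toCn_bijective F Y p).2 n
  exact ⟨b, (toCn_bijective F Y (p + 1)).1 ((toCn_d F Y p b).trans hn)⟩

end Groth.Agent.Desc19b.EtQCoh
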