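import Groth.Agent.Desc19b.EtQCoh.Cech
import Groth.Agent.EtCechLib.Qcqs

/-!
# Étale cohomology of quasi-coherent modules vanishes on affines
-/

set_option autoImplicit false
set_option backward.isDefEq.respectTransparency false
set_option backward.isDefEq.respectTransparency.types false
set_option synthInstance.maxHeartbeats 400000
set_option linter.style.haveILetI false
set_option linter.unusedSectionVars false

universe u

open CategoryTheory CategoryTheory.Limits CategoryTheory.Abelian AlgebraicGeometry Opposite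
open Groth.Agent.SiteCoh Groth.Agent.EtCechLib

namespace Groth.Agent.Desc19b.EtQCoh

variable {X : Scheme.{u}}

theorem isAffine_of_iso {U V : X.Etale} (e : U ≅ V) (h : IsAffine U.left) : IsAffine V.left :=
  haveI : IsIso (e.inv.left : V.left ⟶ U.left) :=
    inferInstanceAs (IsIso ((Scheme.Etale.forget X ⋙ CategoryTheory.Over.forget X).map e.inv))
  IsAffine.of_isIso (e.inv.left : V.left ⟶ U.left)

theorem isAffine_prod {U : X.Etale} (hU : IsAffine U.left) {A B : Over U} (hA : IsAffine A.left.left)
    (hB : IsAffine B.left.left) {c : BinaryFan A B} (hc : IsLimit c) : IsAffine c.pt.left.left := by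
  haveI := hU
  haveI := hA
  haveI := hB
  have h := (Over.isPullback_of_binaryFan_isLimit c hc).map
    (Scheme.Etale.forget X ⋙ CategoryTheory.Over.forget X)
  haveI : IsAffine (pullback A.hom.left B.hom.left) := inferInstance
  exact @IsAffine.of_isIso _ _ h.isoPullback.hom _ ‹IsAffine (pullback A.hom.left B.hom.left)›

theorem isAffine_fan {U : X.Etale} (hU : IsAffine U.left) : ∀ {n : ℕ} (f : Fin n → Over U),
    (∀ k, IsAffine (f k).left.left) → ∀ {c : Fan f}, IsLimit c → IsAffine c.pt.left.left := by
  intro n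
  induction n with
  | zero =>
    intro f _ c hc
    have hT : IsTerminal c.pt := IsTerminal.ofUniqueHom
      (fun Z => hc.lift (Fan.mk Z (fun k => Fin.elim0 k)))
      (fun Z m => hc.hom_ext fun ⟨k⟩ => Fin.elim0 k)
    exact isAffine_of_iso ((Over.forget U).mapIso (Over.mkIdTerminal.uniqueUpToIso hT)) hU
  | succ n ih =>
    intro f hf c hc
    haveI : HasPullbacks X.Etale := inferInstance
    let c₁ : Fan fun i : Fin n => f i.succ := Fan.mk _ (Pi.π fun i : Fin n => f i.succ)
    let t₁ : IsLimit c₁ := productIsProduct _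
    let t₂ := prodIsProd (f 0) c₁.pt
    have h₁ := ih _ (fun k => hf k.succ) t₁
    have h₂ := isAffine_prod hU (hf 0) h₁ t₂
    exact isAffine_of_iso ((Over.forget U).mapIso ((extendFanIsLimit f t₁ t₂).conePointUniqueUpToIso hc)) h₂

theorem exists_affine_family {U : X.Etale} (hU : IsAffine U.left) {T : Sieve U}
    (hT : T ∈ X.smallEtaleTopology U) :
    ∃ (ι : Type (u + 1)) (_ : Finite ι) (Y : ι → Over U), (∀ i, IsAffine (Y i).left.left) ∧ JointlySurj U Y ∧
      ∀ i, T.arrows (Y i).hom := by
  haveI := hU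
  haveI : CompactSpace U.left := inferInstance
  choose Z f hf z hz using fun x : U.left => exists_mem_of_mem hT x
  choose O hO hzO _ using fun x : U.left => exists_isAffineOpen_mem_and_subset (X := (Z x).left)
    (x := z x) (U := ⊤) trivial
  haveI : ∀ x, AlgebraicGeometry.Etale (Z x).hom := fun x => (Z x).prop
  let W : U.left → X.Etale := fun x => Scheme.Etale.mk ((O x).ι ≫ (Z x).hom)
  let g : ∀ x, W x ⟶ U := fun x =>
    (MorphismProperty.Over.homMk (O x).ι rfl trivial : W x ⟶ Z x) ≫ f x
  have hg : ∀ x, IsOpen (Set.range (g x).left) := fun x => by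
    haveI : AlgebraicGeometry.Etale U.hom := U.prop
    haveI : AlgebraicGeometry.Etale ((g x).left ≫ U.hom) := by
      have h : (g x).left ≫ U.hom = (W x).hom := CategoryTheory.Over.w (g x).hom
      exact h ▸ (W x).prop
    haveI := Etale.of_comp (g x).left U.hom
    exact (g x).left.isOpenMap.isOpen_range
  obtain ⟨s, hs⟩ := isCompact_univ.elim_finite_subcover (fun x => Set.range (g x).left) hg
    (fun x _ => Set.mem_iUnion.2 ⟨x, ⟨⟨z x, hzO x⟩, hz x⟩⟩)
  refine ⟨ULift.{u + 1} s, inferInstance, fun i => Over.mk (g i.down.1), fun i => hO i.down.1, fun x => ?_,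
    fun i => T.downward_closed (hf i.down.1) _⟩
  obtain ⟨a, ha, y, hy⟩ := Set.mem_iUnion₂.1 (hs (Set.mem_univ x))
  exact ⟨⟨⟨a, ha⟩⟩, y, hy⟩

/-- Affine objects with finite jointly surjective affine families. -/
noncomputable def affBasis (X : Scheme.{u}) [∀ U : X.Etale, HasFiniteProducts (Over U)] :
    Basis.{u + 1} X.smallEtaleTopology where
  B U := IsAffine U.left
  Cov U ι Y := IsAffine U.left ∧ Finite ι ∧ (∀ i, IsAffine (Y i).left.left) ∧ JointlySurj U Y
  mem U ι Y h := h.2.2.2.mem
  inter U ι Y h p a := isAffine_fan h.1 _ (fun k => h.2.2.1 (a k)) (productIsProduct _)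
  refine_ U hU T hT := by
    obtain ⟨ι, hι, Y, hY, hs, hm⟩ := exists_affine_family hU hT
    exact ⟨ι, Y, ⟨hU, hι, hY, hs⟩, hm⟩

variable (F : X.Modules) [Coh.IsQCoh F]

/-- An associated sheaf is isomorphic to the constructed one. -/
noncomputable def assocIso {G : EtCoh.Ab X} (hG : EtAssoc.IsAssoc F G) : G.obj ≅ QDesc.etPresheaf F :=
  NatIso.ofComponents (fun U => AddEquiv.toAddCommGrpIso (hG.choose U.unop))
    fun {U U'} g => by
      ext s
      refine ULift.ext _ _ ?_
      refine (hG.choose_spec U.unop U'.unop g.unop s).trans ?_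
      exact QDesc.resMap_eq F g.unop _

theorem acyclic_of_isAssoc [∀ U : X.Etale, HasFiniteProducts (Over U)] {G : EtCoh.Ab X}
    (hG : EtAssoc.IsAssoc F G) : (affBasis X).Acyclic G := by
  rintro U ι Y ⟨hU, hι, hY, hs⟩ p
  haveI := hU
  haveI := hι
  let e := assocIso F hG
  refine Cech.isZero_homology_of_retract Y (Functor.whiskerLeft (Over.forget U).op e.hom)
    (Functor.whiskerLeft (Over.forget U).op e.inv) ?_ p ?_
  · rw [← Functor.whiskerLeft_comp, e.hom_inv_id, Functor.whiskerLeft_id']
  · exact isZero_homology F Y hY (fun q a => (affBasis X).inter U ι Y ⟨hU, hι, hY, hs⟩ q a) hs p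

theorem subsingleton_H [IsAffine X] {G : EtCoh.Ab X} (hG : EtAssoc.IsAssoc F G) (n : ℕ) :
    Subsingleton (EtCoh.H X G (n + 1)) := by
  haveI : ∀ U : X.Etale, HasFiniteProducts (Over U) := fun U => inferInstance
  exact (affBasis X).subsingleton_ext
    (fun g hg a => exists_lift_const (EtCore.topIsTerminal X) g (hg _ (inferInstanceAs (IsAffine X))) a)
    (acyclic_of_isAssoc F hG) n

end Groth.Agent.Desc19b.EtQCoh
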